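import Cfsg.Agent.Lib.HNAlt.Dense
import Cfsg.Agent.Lib.HNAlt.Data

/-!
# The long cycle and its powers
-/

set_option autoImplicit false
set_option maxRecDepth 100000
set_option maxHeartbeats 0
set_option Elab.async false

namespace CfsgLib.HNAlt

open CfsgLib.HNxyz ModEleven

/-- The letters with the parts of the long cycle. -/
def gensA : List (List (List (ℕ × ℕ))) :=
  matGens ++ [spOf matC1] ++ [spOf matC2] ++ [spOf matC3] ++ [spOf matC4] ++ [spOf matC5] ++ [spOf matC6] ++ [spOf matC7] ++ [spOf matC8]

/-- The letters with the long cycle and its powers. -/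
def gensT : ℕ → List (List (List (ℕ × ℕ)))
  | 0 => gensA
  | 1 => gensT 0 ++ [spOf matP1]
  | 2 => gensT 1 ++ [spOf matP2]
  | 3 => gensT 2 ++ [spOf matP3]
  | 4 => gensT 3 ++ [spOf matP4]
  | 5 => gensT 4 ++ [spOf matP5]
  | 6 => gensT 5 ++ [spOf matP6]
  | 7 => gensT 6 ++ [spOf matP7]
  | 8 => gensT 7 ++ [spOf matP8]
  | 9 => gensT 8 ++ [spOf matP9]
  | _ => []

/-- The word of the long cycle in the parts. -/
def wT : List ℕ := [8, 9, 10, 11, 12, 13, 14, 15]

theorem cycle_chk : chkM gensA wT matP1 = true := by decide +kernel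

theorem pow_chk_2 : chkM (gensT 1) [16, 16] matP2 = true := by decide +kernel

theorem pow_chk_3 : chkM (gensT 2) [16, 17] matP3 = true := by decide +kernel

theorem pow_chk_4 : chkM (gensT 3) [16, 18] matP4 = true := by decide +kernel

theorem pow_chk_5 : chkM (gensT 4) [16, 19] matP5 = true := by decide +kernel

theorem pow_chk_6 : chkM (gensT 5) [16, 20] matP6 = true := by decide +kernel

theorem pow_chk_7 : chkM (gensT 6) [16, 21] matP7 = true := by decide +kernel

theorem pow_chk_8 : chkM (gensT 7) [16, 22] matP8 = true := by decide +kernel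

theorem pow_chk_9 : chkM (gensT 8) [16, 23] matP9 = true := by decide +kernel

end CfsgLib.HNAlt
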