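import Cfsg.Agent.Lib.HNAlt.Dense
import Cfsg.Agent.Lib.HNAlt.Data

/-!
# The parts of the long cycle
-/

set_option autoImplicit false
set_option maxRecDepth 100000
set_option maxHeartbeats 0
set_option Elab.async false

namespace CfsgLib.HNAlt

open CfsgLib.HNxyz ModEleven

theorem part_chk_1 : chkM matGens wC1 matC1 = true := by decide +kernel

theorem part_chk_2 : chkM matGens wC2 matC2 = true := by decide +kernel

theorem part_chk_3 : chkM matGens wC3 matC3 = true := by decide +kernel

theorem part_chk_4 : chkM matGens wC4 matC4 = true := by decide +kernel

end CfsgLib.HNAlt
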