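import Cfsg.Agent.Lib.HNAlt.Dense
import Cfsg.Agent.Lib.HNAlt.Data

/-!
# The parts of the long cycle
-/

set_option autoImplicit false
set_option maxRecDepth 100000
set_option maxHeartbeats 0
set_option Elab.async false

namespace CfsgLib.HNAlt

open CfsgLib.HNxyz ModEleven

theorem part_chk_5 : chkM matGens wC5 matC5 = true := by decide +kernel

theorem part_chk_6 : chkM matGens wC6 matC6 = true := by decide +kernel

theorem part_chk_7 : chkM matGens wC7 matC7 = true := by decide +kernel

theorem part_chk_8 : chkM matGens wC8 matC8 = true := by decide +kernel

end CfsgLib.HNAlt
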