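import Cfsg.Agent.Lib.HNAlt.Dense
import Cfsg.Agent.Lib.HNAlt.ChkCycle

/-!
# The relations
-/

set_option autoImplicit false
set_option maxRecDepth 100000
set_option maxHeartbeats 0
set_option Elab.async false

namespace CfsgLib.HNAlt

open CfsgLib.HNxyz ModEleven

/-- The word of a relation. -/
def relW (k : ℕ) : List ℕ :=
  let h := [2, 2, 15 + k] ++ (if k % 2 = 0 then [2, 2] else [2, 2, 2, 2]) ++ [25 - k]
  h ++ h

theorem ten_chk : ((([20, 20] : List ℕ).all fun g => Nat.blt g (gensT 9).length) &&
    beqL (evalP 133 (gensT 9) [20, 20]) (idP 133)) = true := by decide +kernel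

theorem rel_chk_1 : (((relW 1).all fun g => Nat.blt g (gensT 9).length) &&
    beqL (evalP 133 (gensT 9) (relW 1)) (idP 133)) = true := by decide +kernel

theorem rel_chk_2 : (((relW 2).all fun g => Nat.blt g (gensT 9).length) &&
    beqL (evalP 133 (gensT 9) (relW 2)) (idP 133)) = true := by decide +kernel

theorem rel_chk_3 : (((relW 3).all fun g => Nat.blt g (gensT 9).length) &&
    beqL (evalP 133 (gensT 9) (relW 3)) (idP 133)) = true := by decide +kernel

theorem rel_chk_4 : (((relW 4).all fun g => Nat.blt g (gensT 9).length) &&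
    beqL (evalP 133 (gensT 9) (relW 4)) (idP 133)) = true := by decide +kernel

theorem rel_chk_5 : (((relW 5).all fun g => Nat.blt g (gensT 9).length) &&
    beqL (evalP 133 (gensT 9) (relW 5)) (idP 133)) = true := by decide +kernel

theorem two_chk : ((([2, 2] : List ℕ).all fun g => Nat.blt g matGens.length) &&
    !beqL (evalP 133 matGens [2, 2]) (idP 133)) = true := by decide +kernel

end CfsgLib.HNAlt
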