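import Cfsg.Agent.Lib.HNxyz.Rep

/-!
# Matrices modulo eleven stored by packed rows

A matrix with entries below eleven is stored by one number for each row, four bits for each entry.
-/

set_option autoImplicit false
set_option maxRecDepth 100000

namespace CfsgLib.HNAlt

open CfsgLib.HNxyz ModEleven Cfsg.Spor

attribute [local irreducible] matGens evalP

/-- The entries of a packed row. -/
def unp (x : ℕ) : List ℕ := (List.range 133).map fun j => (x >>> (4 * j)) &&& 15

/-- A row as sparse row. -/
def spRow (l : List ℕ) : List (ℕ × ℕ) := l.map fun a => (0, a)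

/-- A stored matrix as sparse rows. -/
def spOf (X : List ℕ) : List (List (ℕ × ℕ)) := (X.map unp).map spRow

/-- The value of a word is the stored matrix. -/
def chkM (G : List (List (List (ℕ × ℕ)))) (w : List ℕ) (X : List ℕ) : Bool :=
  (w.all fun g => Nat.blt g G.length) && Nat.beq X.length 133 && okGen 133 (spOf X) &&
    ((X.map unp).all fun l => l.all fun a => Nat.blt a 11) && beqL (evalP 133 G w) ((X.map unp).map pk)

theorem coef_spRow : ∀ (l : List ℕ) (k : ℕ), coef (spRow l) k = ((l.getD k 0 : ℕ) : ZMod 11)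
  | [], k => by simp [spRow, coef]
  | a :: l, 0 => by simp [spRow, coef]
  | a :: l, k + 1 => by
    have := coef_spRow l k
    simp only [spRow] at this
    simp [spRow, coef, this]

theorem genMat_spRow (Y : List (List ℕ)) : genMat 133 (Y.map spRow) = toMat 133 Y := by
  ext i k
  simp only [genMat, toMat, Matrix.of_apply]
  rw [show (Y.map spRow).getD i.val [] = spRow (Y.getD i.val []) by
    rw [show ([] : List (ℕ × ℕ)) = spRow [] from rfl, List.getD_map], coef_spRow]

theorem eq_of_pk : ∀ {Y Z : List (List ℕ)}, Good 133 Y → Good 133 Z → Y.map pk = Z.map pk → Y = Z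
  | [], [], _, _, _ => rfl
  | [], _ :: _, _, _, h => by simp at h
  | _ :: _, [], _, _, h => by simp at h
  | y :: Y, z :: Z, hY, hZ, h => by
    simp only [List.map_cons, List.cons.injEq] at h
    obtain ⟨l1, b1⟩ := hY y (List.mem_cons_self ..)
    obtain ⟨l2, b2⟩ := hZ z (List.mem_cons_self ..)
    rw [pk_inj (l1.trans l2.symm) b1 b2 h.1, eq_of_pk (fun x hx => hY x (List.mem_cons_of_mem _ hx))
      (fun x hx => hZ x (List.mem_cons_of_mem _ hx)) h.2]

/-- The element of a letter. -/
noncomputable def hnEl : List Cfsg.Spor.HN :=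
  [PresentedGroup.of HN.Gen.x, (PresentedGroup.of HN.Gen.x)⁻¹, PresentedGroup.of HN.Gen.y,
    (PresentedGroup.of HN.Gen.y)⁻¹, PresentedGroup.of HN.Gen.z, (PresentedGroup.of HN.Gen.z)⁻¹,
    PresentedGroup.of HN.Gen.t, (PresentedGroup.of HN.Gen.t)⁻¹]

/-- Matrices that are the images of elements. -/
structure Img (G : List (List (List (ℕ × ℕ)))) (E : List Cfsg.Spor.HN) : Prop where
  len : G.length = E.length
  ok : ∀ g < E.length, okGen 133 (G.getD g []) = true
  val : ∀ g < E.length, (rho (E.getD g 1) : Matrix (Fin 133) (Fin 133) (ZMod 11)) = genMat 133 (G.getD g [])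

theorem matGens_len : matGens.length = 8 := by
  unfold matGens
  rfl

theorem lm_def (g : ℕ) : lm g = genMat 133 (matGens.getD g []) := by
  unfold lm
  rfl

theorem img_base : Img matGens hnEl := by
  refine ⟨by rw [matGens_len]; rfl, fun g hg => List.all_eq_true.1 matGens_ok g (List.mem_range.2 hg),
    fun g hg => ?_⟩
  rw [← lm_def]
  have hg8 : g < 8 := hg
  interval_cases g <;> simp only [hnEl, List.getD_cons_succ, List.getD_cons_zero, map_inv, rho_of] <;>
    first
    | rfl
    | exact lm_five.symm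

variable {G : List (List (List (ℕ × ℕ)))} {E : List Cfsg.Spor.HN}

theorem Img.word (h : Img G E) : ∀ {w : List ℕ}, (∀ g ∈ w, g < E.length) →
    (rho ((w.map (E.getD · 1)).prod) : Matrix (Fin 133) (Fin 133) (ZMod 11)) =
      (w.map fun g => genMat 133 (G.getD g [])).prod
  | [], _ => by simp
  | g :: w, hw => by
    rw [List.map_cons, List.map_cons, List.prod_cons, List.prod_cons, map_mul, Units.val_mul,
      h.val g (hw g (List.mem_cons_self ..)), h.word fun x hx => hw x (List.mem_cons_of_mem _ hx)]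

theorem Img.extend (h : Img G E) {w X : List ℕ} (hc : chkM G w X = true) {e : Cfsg.Spor.HN}
    (he : (w.map (E.getD · 1)).prod = e) : Img (G ++ [spOf X]) (E ++ [e]) := by
  simp only [chkM, Bool.and_eq_true, List.all_eq_true, Nat.blt_eq, Nat.beq_eq] at hc
  obtain ⟨⟨⟨⟨hw, hlen⟩, hokX⟩, hsmall⟩, heq⟩ := hc
  have hw' : ∀ g ∈ w, g < E.length := fun g hg => h.len ▸ hw g hg
  obtain ⟨e1, e2, e3, e4⟩ := eval_spec G mat_hid w fun g hg => h.ok g (hw' g hg)
  have hgood : Good 133 (X.map unp) := fun y hy => by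
    obtain ⟨x, -, rfl⟩ := List.mem_map.1 hy
    exact ⟨by simp [unp], hsmall _ hy⟩
  have heval : evalL 133 G w = X.map unp := eq_of_pk e2 hgood (e1.symm.trans (eq_of_beqL heq))
  have hnew : (rho e : Matrix (Fin 133) (Fin 133) (ZMod 11)) = genMat 133 (spOf X) := by
    rw [← he, h.word hw', ← e4, heval, spOf, genMat_spRow]
  refine ⟨by simp [h.len], fun g hg => ?_, fun g hg => ?_⟩
  all_goals
    rw [List.length_append, List.length_singleton] at hg
    rcases Nat.lt_succ_iff_lt_or_eq.1 hg with hg' | rfl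
  · rw [List.getD_append _ _ _ _ (h.len ▸ hg')]; exact h.ok g hg'
  · rw [List.getD_append_right _ _ _ _ h.len.le, h.len, Nat.sub_self]; exact hokX
  · rw [List.getD_append _ _ _ _ hg', List.getD_append _ _ _ _ (h.len ▸ hg')]; exact h.val g hg'
  · rw [List.getD_append_right _ _ _ _ le_rfl, List.getD_append_right _ _ _ _ h.len.le, h.len, Nat.sub_self]
    exact hnew

theorem Img.rho_one (h : Img G E) {w : List ℕ}
    (hc : ((w.all fun g => Nat.blt g G.length) && beqL (evalP 133 G w) (idP 133)) = true) :
    rho ((w.map (E.getD · 1)).prod) = 1 := by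
  simp only [Bool.and_eq_true, List.all_eq_true, Nat.blt_eq] at hc
  have hw' : ∀ g ∈ w, g < E.length := fun g hg => h.len ▸ hc.1 g hg
  refine Units.ext ?_
  rw [h.word hw', Units.val_one]
  exact prod_eq_one mat_hid (fun g hg => h.ok g (hw' g hg)) hc.2

theorem beqL_refl : ∀ l : List ℕ, beqL l l = true
  | [] => rfl
  | a :: l => by simp [beqL, beqL_refl l]

theorem Img.ne_one_rho (h : Img G E) {w : List ℕ}
    (hc : ((w.all fun g => Nat.blt g G.length) && !beqL (evalP 133 G w) (idP 133)) = true) :
    rho ((w.map (E.getD · 1)).prod) ≠ 1 := by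
  simp only [Bool.and_eq_true, List.all_eq_true, Nat.blt_eq, Bool.not_eq_true'] at hc
  have hw' : ∀ g ∈ w, g < E.length := fun g hg => h.len ▸ hc.1 g hg
  intro e
  obtain ⟨e1, e2, e3, e4⟩ := eval_spec G mat_hid w fun g hg => h.ok g (hw' g hg)
  have e5 : toMat 133 (evalL 133 G w) = toMat 133 (idL 133) := by
    rw [e4, toMat_idL, ← h.word hw', e, Units.val_one]
  have key : evalL 133 G w = idL 133 := by
    refine List.ext_getElem (by rw [e3]; simp [idL]) fun i h1 h2 => ?_
    obtain ⟨l1, b1⟩ := e2 _ (List.getElem_mem h1)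
    obtain ⟨l2, b2⟩ := idL_good (n := 133) _ (List.getElem_mem h2)
    refine List.ext_getElem (l1.trans l2.symm) fun j j1 j2 => ?_
    have hi : i < 133 := by rw [← e3]; exact h1
    have hj : j < 133 := by rw [← l1]; exact j1
    have e := congrFun (congrFun e5 ⟨i, hi⟩) ⟨j, hj⟩
    simp only [toMat, Matrix.of_apply] at e
    rw [List.getD_eq_getElem _ [] h1, List.getD_eq_getElem _ [] h2, List.getD_eq_getElem _ 0 j1,
      List.getD_eq_getElem _ 0 j2] at e
    have a1 := b1 _ (List.getElem_mem j1)
    have a2 := b2 _ (List.getElem_mem j2)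
    have := congrArg ZMod.val e
    rwa [ZMod.val_natCast, ZMod.val_natCast, Nat.mod_eq_of_lt a1, Nat.mod_eq_of_lt a2] at this
  have h2 := hc.2
  rw [e1, key, ← mat_hid, beqL_refl] at h2
  exact absurd h2 (by decide)

theorem Img.ne_one (h : Img G E) {w : List ℕ}
    (hc : ((w.all fun g => Nat.blt g G.length) && !beqL (evalP 133 G w) (idP 133)) = true) :
    (w.map (E.getD · 1)).prod ≠ 1 := fun e => h.ne_one_rho hc (by rw [e, map_one])

end CfsgLib.HNAlt
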