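import Cfsg.Agent.Lib.HNAlt.ChkPartsOne
import Cfsg.Agent.Lib.HNAlt.ChkPartsTwo
import Cfsg.Agent.Lib.HNAlt.ChkRels
import Cfsg.Agent.Lib.HNIndex.Simple
import Cfsg.Agent.Lib.Presentations.AltCarmichael

/-!
# An alternating subgroup of degree twelve in the presented Harada–Norton group
-/

set_option autoImplicit false
set_option maxRecDepth 100000

namespace CfsgLib.HNAlt

open CfsgLib.HNxyz ModEleven Cfsg.Spor
open CfsgLib.Presentations.Carmichael

attribute [local irreducible] matGens evalP spOf matC1 matC2 matC3 matC4 matC5 matC6 matC7 matC8 matP1 matP2 matP3 matP4 matP5 matP6 matP7 matP8 matP9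

/-- A homomorphism to the units is injective. -/
theorem rho_inj : Function.Injective rho := by
  haveI := CfsgLib.HNIndex.hn_isHN.1
  rw [← MonoidHom.ker_eq_bot_iff]
  refine (IsSimpleGroup.eq_bot_or_eq_top_of_normal _ (MonoidHom.normal_ker _)).resolve_right fun h => ?_
  exact img_base.ne_one_rho two_chk (MonoidHom.mem_ker.1 (h ▸ Subgroup.mem_top _))

/-- The base three-cycle. -/
noncomputable def sEl : Cfsg.Spor.HN := PresentedGroup.of HN.Gen.y * PresentedGroup.of HN.Gen.y

/-- The product of a word in the generators. -/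
noncomputable def wEl (w : List ℕ) : Cfsg.Spor.HN := (w.map (hnEl.getD · 1)).prod

/-- The letters with the parts of the long cycle. -/
noncomputable def elA : List Cfsg.Spor.HN :=
  hnEl ++ [wEl wC1] ++ [wEl wC2] ++ [wEl wC3] ++ [wEl wC4] ++ [wEl wC5] ++ [wEl wC6] ++ [wEl wC7] ++ [wEl wC8]

theorem img_extend_part {G : List (List (List (ℕ × ℕ)))} {E : List Cfsg.Spor.HN} (h : Img G E)
    {w X : List ℕ} (hc : chkM matGens w X = true) : Img (G ++ [spOf X]) (E ++ [wEl w]) := by
  have h' := img_base.extend hc (e := wEl w) rfl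
  have hn := h'.val hnEl.length (by simp)
  have ho := h'.ok hnEl.length (by simp)
  rw [List.getD_append_right _ _ _ _ le_rfl, List.getD_append_right _ _ _ _ img_base.len.le, img_base.len,
    Nat.sub_self] at hn
  rw [List.getD_append_right _ _ _ _ img_base.len.le, img_base.len, Nat.sub_self] at ho
  refine ⟨by simp [h.len], fun g hg => ?_, fun g hg => ?_⟩
  all_goals
    rw [List.length_append, List.length_singleton] at hg
    rcases Nat.lt_succ_iff_lt_or_eq.1 hg with hg' | rfl
  · rw [List.getD_append _ _ _ _ (h.len ▸ hg')]; exact h.ok g hg'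
  · rw [List.getD_append_right _ _ _ _ h.len.le, h.len, Nat.sub_self]
    exact ho
  · rw [List.getD_append _ _ _ _ hg', List.getD_append _ _ _ _ (h.len ▸ hg')]; exact h.val g hg'
  · rw [List.getD_append_right _ _ _ _ le_rfl, List.getD_append_right _ _ _ _ h.len.le, h.len, Nat.sub_self]
    exact hn

/-- The long cycle. -/
noncomputable def tEl : Cfsg.Spor.HN := (wT.map (elA.getD · 1)).prod

/-- The letters with the powers of the long cycle. -/
noncomputable def elT : ℕ → List Cfsg.Spor.HN
  | 0 => elA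
  | n + 1 => elT n ++ [tEl ^ (n + 1)]

theorem elA_len : elA.length = 16 := by simp [elA, hnEl]

theorem elT_len : ∀ n, (elT n).length = 16 + n
  | 0 => elA_len
  | n + 1 => by rw [elT, List.length_append, elT_len n, List.length_singleton]; rfl

theorem elT_pow : ∀ {n i : ℕ}, i < n → (elT n).getD (16 + i) 1 = tEl ^ (i + 1)
  | n + 1, i, h => by
    rcases Nat.lt_succ_iff_lt_or_eq.1 h with h' | rfl
    · rw [elT, List.getD_append _ _ _ _ (by rw [elT_len]; omega), elT_pow h']
    · rw [elT, List.getD_append_right _ _ _ _ (by rw [elT_len]), elT_len, Nat.sub_self]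
      rfl

theorem elT_two : ∀ n, (elT n).getD 2 1 = PresentedGroup.of HN.Gen.y
  | 0 => rfl
  | n + 1 => by rw [elT, List.getD_append _ _ _ _ (by rw [elT_len]; omega), elT_two n]

theorem img_A : Img gensA elA :=
  (img_extend_part (img_extend_part (img_extend_part (img_extend_part (img_extend_part (img_extend_part (img_extend_part (img_extend_part img_base part_chk_1) part_chk_2) part_chk_3) part_chk_4) part_chk_5) part_chk_6) part_chk_7) part_chk_8)

theorem img_pow {n : ℕ} {G : List (List (List (ℕ × ℕ)))} (h : Img G (elT (n + 1))) {X : List ℕ}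
    (hc : chkM G [16, 16 + n] X = true) : Img (G ++ [spOf X]) (elT (n + 2)) := by
  refine h.extend hc ?_
  rw [List.map_cons, List.map_cons, List.map_nil, List.prod_cons, List.prod_cons, List.prod_nil, mul_one,
    show (elT (n + 1)).getD 16 1 = tEl from (elT_pow (i := 0) (by omega)).trans (pow_one _),
    elT_pow (by omega), ← pow_succ']

theorem img_T : Img (gensT 9) (elT 9) := by
  have h1 : Img (gensT 1) (elT 1) := by
    rw [gensT, gensT, elT, elT, pow_one]
    exact img_A.extend cycle_chk rfl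
  have h2 : Img (gensT 2) (elT 2) := by
    rw [gensT]
    exact img_pow (n := 0) h1 pow_chk_2
  have h3 : Img (gensT 3) (elT 3) := by
    rw [gensT]
    exact img_pow (n := 1) h2 pow_chk_3
  have h4 : Img (gensT 4) (elT 4) := by
    rw [gensT]
    exact img_pow (n := 2) h3 pow_chk_4
  have h5 : Img (gensT 5) (elT 5) := by
    rw [gensT]
    exact img_pow (n := 3) h4 pow_chk_5
  have h6 : Img (gensT 6) (elT 6) := by
    rw [gensT]
    exact img_pow (n := 4) h5 pow_chk_6
  have h7 : Img (gensT 7) (elT 7) := by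
    rw [gensT]
    exact img_pow (n := 5) h6 pow_chk_7
  have h8 : Img (gensT 8) (elT 8) := by
    rw [gensT]
    exact img_pow (n := 6) h7 pow_chk_8
  have h9 : Img (gensT 9) (elT 9) := by
    rw [gensT]
    exact img_pow (n := 7) h8 pow_chk_9
  exact h9

theorem rel_of_chk {w : List ℕ}
    (hc : ((w.all fun g => Nat.blt g (gensT 9).length) && beqL (evalP 133 (gensT 9) w) (idP 133)) = true) :
    (w.map ((elT 9).getD · 1)).prod = 1 :=
  rho_inj (by rw [img_T.rho_one hc, map_one])

theorem t_ten : tEl ^ 10 = 1 := by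
  have := rel_of_chk ten_chk
  rw [List.map_cons, List.map_cons, List.map_nil, List.prod_cons, List.prod_cons, List.prod_nil, mul_one,
    show (20 : ℕ) = 16 + 4 from rfl, elT_pow (show 4 < 9 by norm_num), ← pow_add] at this
  exact this

theorem y_six : (PresentedGroup.of HN.Gen.y : Cfsg.Spor.HN) ^ 6 = 1 :=
  CfsgLib.HNIndex.hn_rel (r := HN.y ^ 6) (by simp [HN.extra])

theorem s_three : sEl ^ 3 = 1 := by
  have := y_six
  simp only [pow_succ, pow_zero, one_mul, sEl, mul_assoc] at this ⊢
  exact this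

theorem s_inv : sEl⁻¹ = sEl * sEl :=
  inv_eq_of_mul_eq_one_right (by rw [← mul_assoc]; simpa only [pow_succ, pow_zero, one_mul] using s_three)

/-- The sign in the numbering. -/
noncomputable def tw (n : ℕ) (u : Cfsg.Spor.HN) : Cfsg.Spor.HN := if n % 2 = 0 then u else u⁻¹

theorem rel_near {k : ℕ} (h1 : 1 ≤ k) (h5 : k ≤ 5) :
    (sEl * (tEl ^ k * tw k sEl * (tEl ^ k)⁻¹)) ^ 2 = 1 := by
  have h := rel_of_chk (w := relW k) (by
    interval_cases k
    exacts [rel_chk_1, rel_chk_2, rel_chk_3, rel_chk_4, rel_chk_5])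
  have e1 : (elT 9).getD (15 + k) 1 = tEl ^ k := by
    rw [show 15 + k = 16 + (k - 1) by omega, elT_pow (by omega), Nat.sub_add_cancel h1]
  have e2 : (elT 9).getD (25 - k) 1 = (tEl ^ k)⁻¹ := by
    rw [show 25 - k = 16 + (9 - k) by omega, elT_pow (by omega)]
    refine (inv_eq_of_mul_eq_one_right ?_).symm
    rw [← pow_add, show k + (9 - k + 1) = 10 by omega, t_ten]
  rw [← h, tw, s_inv, pow_two, relW]
  split_ifs <;> simp only [List.map_append, List.prod_append, List.map_cons, List.map_nil, List.prod_cons,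
    List.prod_nil, mul_one, elT_two, e1, e2, sEl, mul_assoc]

/-- The conjugates of the base cycle. -/
noncomputable def yEl (n : ℕ) : Cfsg.Spor.HN := tw n (tEl ^ n * sEl * (tEl ^ n)⁻¹)

theorem yEl_period (n : ℕ) : yEl (n + 10) = yEl n := by
  simp only [yEl, tw, pow_add, t_ten, mul_one, show (n + 10) % 2 = n % 2 by omega]

theorem yEl_cube (n : ℕ) : yEl n ^ 3 = 1 := by
  unfold yEl tw
  split_ifs <;> simp only [inv_pow, conj_pow, s_three, mul_one, mul_inv_cancel, inv_one]

theorem pair_near (a : ℕ) {d : ℕ} (h1 : 1 ≤ d) (h5 : d ≤ 5) : (yEl a * yEl (a + d)) ^ 2 = 1 := by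
  have hconj : tEl ^ (a + d) * sEl * (tEl ^ (a + d))⁻¹ =
      tEl ^ a * (tEl ^ d * sEl * (tEl ^ d)⁻¹) * (tEl ^ a)⁻¹ := by
    rw [pow_add]; group
  have hd : (tEl ^ a * sEl * (tEl ^ a)⁻¹ * tw d (tEl ^ (a + d) * sEl * (tEl ^ (a + d))⁻¹)) ^ 2 = 1 := by
    have e : tw d (tEl ^ (a + d) * sEl * (tEl ^ (a + d))⁻¹) =
        tEl ^ a * (tEl ^ d * tw d sEl * (tEl ^ d)⁻¹) * (tEl ^ a)⁻¹ := by
      unfold tw
      split_ifs
      · exact hconj
      · rw [hconj]; group
    rw [e, conj_mul, conj_pow, rel_near h1 h5, mul_one, mul_inv_cancel]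
  unfold yEl
  by_cases ha : a % 2 = 0
  · rw [show tw a (tEl ^ a * sEl * (tEl ^ a)⁻¹) = tEl ^ a * sEl * (tEl ^ a)⁻¹ from if_pos ha,
      show tw (a + d) (tEl ^ (a + d) * sEl * (tEl ^ (a + d))⁻¹) = tw d (tEl ^ (a + d) * sEl * (tEl ^ (a + d))⁻¹) by
        simp only [tw, show (a + d) % 2 = d % 2 by omega]]
    exact hd
  · rw [show tw a (tEl ^ a * sEl * (tEl ^ a)⁻¹) = (tEl ^ a * sEl * (tEl ^ a)⁻¹)⁻¹ from if_neg ha,
      show tw (a + d) (tEl ^ (a + d) * sEl * (tEl ^ (a + d))⁻¹) = (tw d (tEl ^ (a + d) * sEl * (tEl ^ (a + d))⁻¹))⁻¹ by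
        unfold tw
        by_cases hd2 : d % 2 = 0
        · rw [if_pos hd2, if_neg (by omega)]
        · rw [if_neg hd2, if_pos (by omega), inv_inv],
      ← mul_inv_rev, inv_pow, pair_comm' hd, inv_one]

theorem pair_all {a b : ℕ} (hab : a < b) (hb : b ≤ a + 9) : (yEl a * yEl b) ^ 2 = 1 := by
  rcases Nat.lt_or_ge b (a + 6) with h | h
  · have := pair_near a (d := b - a) (by omega) (by omega)
    rwa [show a + (b - a) = b by omega] at this
  · have := pair_near b (d := a + 10 - b) (by omega) (by omega)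
    rw [show b + (a + 10 - b) = a + 10 by omega, yEl_period] at this
    exact pair_comm' this

theorem crels : CRels (fun i : Idx (0 : Fin 12) 1 => yEl i.1.val) := by
  refine ⟨fun i => yEl_cube _, fun i j hij => ?_⟩
  have hi : 2 ≤ i.1.val := by
    obtain ⟨⟨v, hv⟩, h0, h1⟩ := i
    simp only [ne_eq, Fin.ext_iff, Fin.val_zero, Fin.val_one] at h0 h1
    show 2 ≤ v
    omega
  have hj : 2 ≤ j.1.val := by
    obtain ⟨⟨v, hv⟩, h0, h1⟩ := j
    simp only [ne_eq, Fin.ext_iff, Fin.val_zero, Fin.val_one] at h0 h1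
    show 2 ≤ v
    omega
  have hne : i.1.val ≠ j.1.val := fun e => hij (Subtype.ext (Fin.ext e))
  rcases lt_or_gt_of_ne hne with h | h
  · exact pair_all h (by omega)
  · exact pair_comm' (pair_all h (by omega))

/-- The presented Harada–Norton group has a subgroup isomorphic to the alternating group of degree twelve. -/
theorem exists_alt : ∃ K : Subgroup Cfsg.Spor.HN, Nonempty (↥K ≃* ↥(alternatingGroup (Fin 12))) := by
  have h01 : (0 : Fin 12) ≠ 1 := by decide
  obtain ⟨Ψ, hΨ⟩ := exists_hom h01 _ crels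
  haveI : IsSimpleGroup ↥(alternatingGroup (Fin 12)) := alternatingGroup.isSimpleGroup (by simp)
  have hinj : Function.Injective Ψ := by
    rw [← MonoidHom.ker_eq_bot_iff]
    refine (IsSimpleGroup.eq_bot_or_eq_top_of_normal _ (MonoidHom.normal_ker _)).resolve_right fun h => ?_
    have h2 : yEl 2 = 1 := by
      have := hΨ ⟨2, by decide⟩
      rw [MonoidHom.mem_ker.1 (h ▸ Subgroup.mem_top _)] at this
      exact this.symm
    have hy : sEl = 1 := by
      simpa [yEl, tw] using h2
    exact img_base.ne_one two_chk (by simpa [hnEl, sEl] using hy)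
  exact ⟨Ψ.range, ⟨(MonoidHom.ofInjective hinj).symm⟩⟩

end CfsgLib.HNAlt
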